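import Groth.Agent.L10.UnivExact.Flat
import Groth.Agent.L10.DRing.RHomCx
import Groth.Agent.L02.Flat
import Groth.Agent.L10.KFlat.Res
import Groth.Agent.L10.KFlat.Criterion
import Groth.Agent.L29.Dual.InjRep
import Mathlib.Algebra.Category.ModuleCat.Monoidal.Basic

/-!
Complexes of flat modules with flat cocycle quotients and cohomology `R` in degree zero: tensor products with
modules and with complexes.
-/

set_option autoImplicit false
set_option backward.defeqAttrib.useBackward true
set_option backward.isDefEq.respectTransparency false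
set_option linter.style.haveILetI false
set_option maxHeartbeats 1600000

universe u

open CategoryTheory CategoryTheory.Limits MonoidalCategory CochainComplex
open scoped TensorProduct

attribute [local instance] HasDerivedCategory.standard

noncomputable section

namespace Groth.L10.UnivExact

section FlatCoker

variable {R B : Type u} [CommRing R] [CommRing B] [Algebra R B] [Algebra.FinitePresentation R B]

/-- cocycle quotients of a bounded below complex with flat cohomology -/
theorem flat_coker (D : DRing.Cx B) [∀ n, Module R (D.X n)] [∀ n, IsScalarTower R B (D.X n)] (c : ℤ)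
    (hv : ∀ i, i < c → IsZero (D.X i)) (hfp : ∀ i, Module.FinitePresentation B (D.X i))
    (hflat : ∀ i, Module.Flat R (D.X i))
    (hH : ∀ i j k : ℤ, i + 1 = j → j + 1 = k →
      Module.Flat R (LinearMap.ker (D.d j k).hom ⧸ (LinearMap.range (D.d i j).hom).comap (LinearMap.ker (D.d j k).hom).subtype) ∧
      Module.FinitePresentation B
        (LinearMap.ker (D.d j k).hom ⧸ (LinearMap.range (D.d i j).hom).comap (LinearMap.ker (D.d j k).hom).subtype))
    (i j : ℤ) (hij : i + 1 = j) : Module.Flat R (D.X j ⧸ LinearMap.range (D.d i j).hom) := by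
  by_cases hj : j < c
  · haveI := ModuleCat.subsingleton_of_isZero (hv j hj)
    infer_instance
  obtain ⟨n, hn⟩ := Int.eq_ofNat_of_zero_le (show 0 ≤ i - (c - 1) by omega)
  obtain rfl : i = c - 1 + (n : ℤ) := by omega
  obtain rfl : j = c - 1 + ((n + 1 : ℕ) : ℤ) := by omega
  have hcomp : ∀ (n : ℕ) (x : D.X (c - 1 + (n : ℤ))),
      (D.d (c - 1 + ((n + 1 : ℕ) : ℤ)) (c - 1 + ((n + 1 + 1 : ℕ) : ℤ))).hom
        ((D.d (c - 1 + (n : ℤ)) (c - 1 + ((n + 1 : ℕ) : ℤ))).hom x) = 0 := fun n x => by
    rw [← LinearMap.comp_apply, ← ModuleCat.hom_comp, D.d_comp_d]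
    rfl
  exact (coker_flat (M := fun n : ℕ => D.X (c - 1 + (n : ℤ)))
    (d := fun n => (D.d (c - 1 + (n : ℤ)) (c - 1 + ((n + 1 : ℕ) : ℤ))).hom)
    (fun n => hflat _) (fun n => hfp _) hcomp
    (by
      haveI := ModuleCat.subsingleton_of_isZero (hv (c - 1 + ((0 : ℕ) : ℤ)) (by omega))
      exact Function.injective_of_subsingleton _)
    (fun n => (hH _ _ _ (by omega) (by omega)).1) (fun n => (hH _ _ _ (by omega) (by omega)).2) n).1

end FlatCoker

section Tensor

variable {R : Type u} [CommRing R]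

/-- the data: flat terms and cocycle quotients, exact off degree zero, free of rank one in degree zero -/
structure Aug (C : DRing.Cx R) (z : C.X 0) : Prop where
  flat : ∀ i, Module.Flat R (C.X i)
  flatQ : ∀ i j : ℤ, i + 1 = j → Module.Flat R (C.X j ⧸ LinearMap.range (C.d i j).hom)
  cycle : C.d 0 1 z = 0
  exact : ∀ i j k : ℤ, i + 1 = j → j + 1 = k → j ≠ 0 → ∀ y : C.X j, C.d j k y = 0 → ∃ x, C.d i j x = y
  gen : ∀ y : C.X 0, C.d 0 1 y = 0 → ∃ (r : R) (x : C.X (-1)), r • z + C.d (-1) 0 x = y
  free : ∀ (r : R) (x : C.X (-1)), r • z = C.d (-1) 0 x → r = 0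

variable {C : DRing.Cx R} {z : C.X 0} (hC : Aug C z) (W : Type u) [AddCommGroup W] [Module R W]

include hC in
/-- the image of a differential is flat -/
theorem Aug.flat_range (i j : ℤ) (hij : i + 1 = j) : Module.Flat R (LinearMap.range (C.d i j).hom) := by
  haveI := hC.flat j
  haveI := hC.flatQ i j hij
  exact Groth.L02.flat_of_universallyInjective (LinearMap.range (C.d i j).hom).subtype
    (Groth.L02.universallyInjective_of_flat_coker _ (LinearMap.range (C.d i j).hom).mkQ Subtype.val_injective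
      (LinearMap.exact_subtype_mkQ _) (Submodule.mkQ_surjective _))

include hC in
/-- cocycles after tensoring come from cocycles -/
theorem Aug.cocycle (j k : ℤ) (hjk : j + 1 = k) (y : C.X j ⊗[R] W) (hy : (C.d j k).hom.rTensor W y = 0) :
    ∃ t, (LinearMap.ker (C.d j k).hom).subtype.rTensor W t = y := by
  haveI := hC.flatQ j k hjk
  let f := (C.d j k).hom
  have hi : Function.Injective ((LinearMap.range f).subtype.rTensor W) := by
    rw [← LinearMap.lTensor_inj_iff_rTensor_inj]
    exact LinearMap.lTensor_injective_of_exact_of_flat (LinearMap.range f).mkQ (Submodule.mkQ_surjective _) _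
      Subtype.val_injective (LinearMap.exact_subtype_mkQ _) W
  have h0 : f.rangeRestrict.rTensor W y = 0 := hi (by
    rw [map_zero, ← LinearMap.comp_apply, ← LinearMap.rTensor_comp, show (LinearMap.range f).subtype ∘ₗ f.rangeRestrict = f from rfl]
    exact hy)
  have hex : Function.Exact (LinearMap.ker f).subtype f.rangeRestrict := fun x => by
    rw [← LinearMap.mem_ker, LinearMap.ker_rangeRestrict]
    exact ⟨fun h => ⟨⟨x, h⟩, rfl⟩, fun ⟨w, hw⟩ => hw ▸ w.2⟩
  exact (rTensor_exact W hex f.surjective_rangeRestrict y).1 h0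

include hC in
theorem Aug.exactW (i j k : ℤ) (hij : i + 1 = j) (hjk : j + 1 = k) (hj : j ≠ 0) (y : C.X j ⊗[R] W)
    (hy : (C.d j k).hom.rTensor W y = 0) : ∃ x, (C.d i j).hom.rTensor W x = y := by
  obtain ⟨t, rfl⟩ := hC.cocycle W j k hjk y hy
  let g : C.X i →ₗ[R] LinearMap.ker (C.d j k).hom := (C.d i j).hom.codRestrict _ fun x => by
    rw [LinearMap.mem_ker, ← LinearMap.comp_apply, ← ModuleCat.hom_comp, C.d_comp_d]
    rfl
  obtain ⟨x, rfl⟩ := LinearMap.rTensor_surjective W (g := g)
    (fun w => by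
      obtain ⟨x, hx⟩ := hC.exact i j k hij hjk hj w.1 w.2
      exact ⟨x, Subtype.ext hx⟩) t
  refine ⟨x, ?_⟩
  rw [← LinearMap.comp_apply, ← LinearMap.rTensor_comp]
  rfl

include hC in
theorem Aug.genW (y : C.X 0 ⊗[R] W) (hy : (C.d 0 1).hom.rTensor W y = 0) :
    ∃ (w : W) (x : C.X (-1) ⊗[R] W), z ⊗ₜ[R] w + (C.d (-1) 0).hom.rTensor W x = y := by
  obtain ⟨t, rfl⟩ := hC.cocycle W 0 1 (by omega) y hy
  let g : (R × C.X (-1)) →ₗ[R] LinearMap.ker (C.d 0 1).hom :=
    (LinearMap.coprod (LinearMap.toSpanSingleton R (C.X 0) z) (C.d (-1) 0).hom).codRestrict _ fun p => by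
      rw [LinearMap.mem_ker, LinearMap.coprod_apply, LinearMap.toSpanSingleton_apply, map_add, map_smul, hC.cycle,
        smul_zero, zero_add, ← LinearMap.comp_apply, ← ModuleCat.hom_comp, C.d_comp_d]
      rfl
  obtain ⟨s, rfl⟩ := LinearMap.rTensor_surjective W (g := g)
    (fun w => by
      obtain ⟨r, x, h⟩ := hC.gen w.1 w.2
      exact ⟨(r, x), Subtype.ext h⟩) t
  refine ⟨TensorProduct.lid R W ((LinearMap.fst R R _).rTensor W s), (LinearMap.snd R R _).rTensor W s, ?_⟩
  clear hy
  induction s using TensorProduct.induction_on with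
  | zero => simp
  | tmul p w =>
    simp only [LinearMap.rTensor_tmul, TensorProduct.lid_tmul, LinearMap.fst_apply, LinearMap.snd_apply,
      Submodule.subtype_apply]
    rw [← TensorProduct.smul_tmul, ← TensorProduct.add_tmul]
    rfl
  | add a b ha hb =>
    simp only [map_add, TensorProduct.tmul_add]
    rw [← ha, ← hb]
    abel

include hC in
theorem Aug.freeW (w : W) (x : C.X (-1) ⊗[R] W) (h : z ⊗ₜ[R] w = (C.d (-1) 0).hom.rTensor W x) : w = 0 := by
  let d := (C.d (-1) 0).hom
  let Q := C.X 0 ⧸ LinearMap.range d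
  let ι : R →ₗ[R] Q := LinearMap.toSpanSingleton R Q (Submodule.Quotient.mk z)
  let D : Q →ₗ[R] C.X 1 := (LinearMap.range d).liftQ (C.d 0 1).hom (by
    rintro _ ⟨v, rfl⟩
    rw [LinearMap.mem_ker, ← LinearMap.comp_apply, ← ModuleCat.hom_comp, C.d_comp_d]
    rfl)
  haveI := hC.flat_range 0 1 (by omega)
  let g : Q →ₗ[R] LinearMap.range (C.d 0 1).hom := D.codRestrict _ fun q => by
    obtain ⟨v, rfl⟩ := Submodule.mkQ_surjective _ q
    exact ⟨v, rfl⟩
  have hg : Function.Surjective g := fun v => by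
    obtain ⟨u, hu⟩ := v.2
    exact ⟨Submodule.Quotient.mk u, Subtype.ext hu⟩
  have hι : Function.Injective ι := (injective_iff_map_eq_zero _).2 fun r hr => by
    have hr' : Submodule.Quotient.mk (p := LinearMap.range d) (r • z) = 0 := hr
    obtain ⟨v, hv⟩ := (Submodule.Quotient.mk_eq_zero _).1 hr'
    exact hC.free r v hv.symm
  have hex : Function.Exact ι g := fun q => by
    obtain ⟨v, rfl⟩ := Submodule.mkQ_surjective _ q
    constructor
    · intro hv
      obtain ⟨r, u, hu⟩ := hC.gen v (congrArg Subtype.val hv)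
      refine ⟨r, (Submodule.Quotient.eq (LinearMap.range d)).2 ⟨-u, ?_⟩⟩
      rw [map_neg, ← hu]
      exact (sub_add_cancel_left _ _).symm
    · rintro ⟨r, hr⟩
      refine Subtype.ext ?_
      change D ((LinearMap.range d).mkQ v) = 0
      rw [← hr, show ι r = r • Submodule.Quotient.mk z from rfl, map_smul]
      exact (congrArg (r • ·) hC.cycle).trans (smul_zero r)
  have hW : Function.Injective (ι.rTensor W) := by
    rw [← LinearMap.lTensor_inj_iff_rTensor_inj]
    exact LinearMap.lTensor_injective_of_exact_of_flat g hg ι hι hex W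
  have h1 : (LinearMap.range d).mkQ.rTensor W (z ⊗ₜ[R] w) = 0 := by
    rw [h, ← LinearMap.comp_apply, ← LinearMap.rTensor_comp,
      show (LinearMap.range d).mkQ ∘ₗ d = 0 from LinearMap.range_mkQ_comp d, LinearMap.rTensor_zero]
    rfl
  have h2 : (1 : R) ⊗ₜ[R] w = (0 : R ⊗[R] W) := hW (by
    rw [map_zero, LinearMap.rTensor_tmul, show ι 1 = (LinearMap.range d).mkQ z from one_smul R _]
    exact h1)
  simpa using congrArg (TensorProduct.lid R W) h2

include hC in
/-- the map out of the base ring -/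
def Aug.ι : (CochainComplex.singleFunctor (ModuleCat.{u} R) 0).obj (ModuleCat.of R R) ⟶ C :=
  Groth.L29.HomD.cycleHom C (ModuleCat.of R R) (ModuleCat.ofHom (LinearMap.toSpanSingleton R (C.X 0) z))
    (ModuleCat.hom_ext (LinearMap.ext fun r => by
      change C.d 0 1 (r • z) = 0
      rw [map_smul, hC.cycle, smul_zero]))

include hC in
theorem Aug.ι_f0 : hC.ι.f 0 = (HomologicalComplex.singleObjXSelf (ComplexShape.up ℤ) 0 (ModuleCat.of R R)).hom ≫
    ModuleCat.ofHom (LinearMap.toSpanSingleton R (C.X 0) z) :=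
  Groth.L29.HomD.cycleHom_f _ _ _ _

include hC in
/-- the map out of the base ring is a quasi-isomorphism after tensoring with a module -/
theorem Aug.quasiIso_tensor (M : ModuleCat.{u} R) :
    QuasiIso (((tensorRight M).mapHomologicalComplex (ComplexShape.up ℤ)).map hC.ι) := by
  let S := (CochainComplex.singleFunctor (ModuleCat.{u} R) 0).obj (ModuleCat.of R R)
  have hsub : ∀ n, n ≠ 0 → Subsingleton (S.X n ⊗[R] M) := fun n hn =>
    Groth.L28.TensorQis.subsingleton_tensor_left _ (HomologicalComplex.isZero_single_obj_X (ComplexShape.up ℤ) 0 _ n hn)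
  let e := HomologicalComplex.singleObjXSelf (ComplexShape.up ℤ) 0 (ModuleCat.of R R)
  have hS : ∀ s : S.X 0 ⊗[R] M, ∃ w : M, s = e.inv.hom (1 : R) ⊗ₜ[R] w := fun s => by
    induction s using TensorProduct.induction_on with
    | zero => exact ⟨0, (TensorProduct.tmul_zero _ _).symm⟩
    | tmul a w =>
      refine ⟨(e.hom.hom a : R) • w, ?_⟩
      rw [← TensorProduct.smul_tmul, ← map_smul, smul_eq_mul, mul_one]
      exact congrArg (· ⊗ₜ[R] w) (Iso.hom_inv_id_apply e a).symm
    | add a b ha hb =>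
      obtain ⟨w, rfl⟩ := ha
      obtain ⟨w', rfl⟩ := hb
      exact ⟨w + w', (TensorProduct.tmul_add _ _ _).symm⟩
  have hf : ∀ w : M, (hC.ι.f 0).hom.rTensor M (e.inv.hom (1 : R) ⊗ₜ[R] w) = z ⊗ₜ[R] w := fun w => by
    rw [LinearMap.rTensor_tmul, hC.ι_f0]
    change (e.hom.hom (e.inv.hom (1 : R)) : R) • z ⊗ₜ[R] w = _
    rw [show (e.hom.hom (e.inv.hom (1 : R)) : R) = 1 from Iso.inv_hom_id_apply e _, one_smul]
  refine Groth.L10.RHomCx.quasiIso_of_elements _ (fun n (y : C.X n ⊗[R] M) hy => ?_)
    (fun n (x : S.X n ⊗[R] M) (w : C.X (n - 1) ⊗[R] M) _ he => ?_)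
  · by_cases hn : n = 0
    · subst hn
      obtain ⟨w, x, h⟩ := hC.genW M y (by exact hy)
      exact ⟨e.inv.hom (1 : R) ⊗ₜ[R] w, x, by
        haveI := hsub (0 + 1) (by omega)
        exact @Subsingleton.elim _ this _ _, (congrArg (fun t : C.X 0 ⊗[R] M => t + (C.d (-1) 0).hom.rTensor M x) (hf w)).trans h⟩
    · obtain ⟨x, hx⟩ := hC.exactW M (n - 1) n (n + 1) (by omega) rfl hn y (by exact hy)
      exact ⟨(0 : S.X n ⊗[R] M), x, map_zero _, ((congrArg (· + _) (map_zero _)).trans (zero_add _)).trans hx⟩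
  · refine ⟨(0 : S.X (n - 1) ⊗[R] M), (map_zero _).trans ?_⟩
    by_cases hn : n = 0
    · subst hn
      obtain ⟨v, rfl⟩ := hS x
      rw [hC.freeW M v w ((hf v).symm.trans he), TensorProduct.tmul_zero]
    · haveI := hsub n hn
      exact Subsingleton.elim (α := S.X n ⊗[R] M) _ _

include hC in
/-- the map out of the base ring is a quasi-isomorphism -/
theorem Aug.quasiIso_ι : QuasiIso hC.ι := by
  let e := HomologicalComplex.singleObjXSelf (ComplexShape.up ℤ) 0 (ModuleCat.of R R)
  let S := (CochainComplex.singleFunctor (ModuleCat.{u} R) 0).obj (ModuleCat.of R R)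
  have hsub : ∀ n, n ≠ 0 → Subsingleton (S.X n) := fun n hn =>
    ModuleCat.subsingleton_of_isZero (HomologicalComplex.isZero_single_obj_X (ComplexShape.up ℤ) 0 _ n hn)
  have hf : ∀ a : S.X 0, hC.ι.f 0 a = (e.hom.hom a : R) • z := fun a => by
    rw [hC.ι_f0]; rfl
  refine Groth.L10.RHomCx.quasiIso_of_elements _ (fun n y hy => ?_) (fun n x w _ he => ?_)
  · by_cases hn : n = 0
    · subst hn
      obtain ⟨r, x, h⟩ := hC.gen y hy
      refine ⟨e.inv.hom r, x, ?_, ?_⟩
      · haveI := hsub (0 + 1) (by omega)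
        exact Subsingleton.elim _ _
      · rw [hf, show (e.hom.hom (e.inv.hom r) : R) = r from Iso.inv_hom_id_apply e _]
        exact h
    · obtain ⟨x, hx⟩ := hC.exact (n - 1) n (n + 1) (by omega) rfl hn y hy
      exact ⟨0, x, map_zero _, by rw [map_zero, zero_add, hx]⟩
  · refine ⟨0, ?_⟩
    rw [map_zero]
    by_cases hn : n = 0
    · subst hn
      rw [hf] at he
      apply (e.toLinearEquiv).injective
      rw [map_zero]
      exact (hC.free _ w he).symm
    · haveI := hsub n hn
      exact Subsingleton.elim _ _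

include hC in
/-- tensoring with any complex -/
theorem Aug.quasiIso_tensor_cx (G : DRing.Cx R) : QuasiIso (G ◁ hC.ι) := by
  haveI := hC.quasiIso_ι
  have hacyc := Groth.L00.ConeTransfer.acyclic_cone hC.ι
  have hK : DRing.IsKFlat R (mappingCone hC.ι) :=
    Groth.L10.KFlat.of_tensor_fp _ fun M _ _ _ i => by
      haveI := hC.quasiIso_tensor (ModuleCat.of R M)
      exact (Groth.L00.ConeTransfer.acyclic_cone
        (((tensorRight (ModuleCat.of R M)).mapHomologicalComplex (ComplexShape.up ℤ)).map hC.ι) i).of_iso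
        ((HomologicalComplex.homologyFunctor _ _ i).mapIso
          (CochainComplex.mappingCone.mapHomologicalComplexIso hC.ι (tensorRight (ModuleCat.of R M))))
  haveI : QuasiIso ((Groth.L10.KFlat.T G).map hC.ι) :=
    Groth.L00.ConeTransfer.quasiIso_map (Groth.L10.KFlat.T G)
      (fun S σ => Groth.L00.BifExact.shortExact_T_of_splitting _ G S σ) hC.ι
      (fun i => Groth.L10.KFlat.acyclic_tensor_cone_id G _ i)
      (fun i => Groth.L10.KFlat.acyclic_tensor _ hK hacyc G i)
  rw [show G ◁ hC.ι = (Groth.L10.KFlat.T G).map hC.ι from (MonoidalCategory.id_tensorHom G hC.ι).symm]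
  infer_instance

end Tensor

end Groth.L10.UnivExact
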