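import Mathlib.RingTheory.Flat.Stability
import Mathlib.RingTheory.Flat.Localization
import Mathlib.RingTheory.Polynomial.Basic
import Mathlib.RingTheory.Polynomial.Quotient
import Mathlib.Algebra.Polynomial.AlgebraMap
import Mathlib.RingTheory.Localization.AtPrime.Basic
import Mathlib.RingTheory.LocalRing.ResidueField.Basic
import Mathlib.RingTheory.TensorProduct.Quotient
import Mathlib.LinearAlgebra.TensorProduct.RightExactness
import Mathlib.Algebra.Category.ModuleCat.Basic

/-!
Bounded below complexes of flat modules with flat cohomology: the first differential is injective on fibres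
as soon as it is injective. (No finiteness hypothesis: the proof only uses that an element of `m M` lies in
`I M` for a finitely generated `I ⊆ m`, and McCoy's theorem.)
-/

set_option autoImplicit false
set_option linter.style.haveILetI false
set_option maxSynthPendingDepth 4

universe u

open TensorProduct

noncomputable section

namespace Groth.L10.UnivExact

variable {R : Type u} [CommRing R]

/-- the homology of a sequence at the place `n + 1` -/
abbrev H {M : ℕ → ModuleCat.{u} R} (d : ∀ n, M n →ₗ[R] M (n + 1)) (n : ℕ) : Type u :=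
  LinearMap.ker (d (n + 1)) ⧸ (LinearMap.range (d n)).comap (LinearMap.ker (d (n + 1))).subtype

/-- flat terms, flat cohomology, injective at the start -/
structure Good {M : ℕ → ModuleCat.{u} R} (d : ∀ n, M n →ₗ[R] M (n + 1)) : Prop where
  flat : ∀ n, Module.Flat R (M n)
  comp : ∀ n x, d (n + 1) (d n x) = 0
  inj : Function.Injective (d 0)
  flatH : ∀ n, Module.Flat R (H d n)

/-- elements killed by a regular element in a flat module -/
theorem eq_zero_of_smul {N : Type u} [AddCommGroup N] [Module R N] [Module.Flat R N] {f : R}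
    (hf : IsSMulRegular R f) {x : N} (h : f • x = 0) : x = 0 := by
  have h1 := Module.Flat.lTensor_preserves_injective_linearMap (M := N) (f • LinearMap.id (R := R) (M := R)) hf
  have h2 : (x ⊗ₜ[R] (1 : R)) = 0 := by
    refine h1 ?_
    rw [map_zero, LinearMap.lTensor_tmul]
    change x ⊗ₜ[R] (f • (1 : R)) = 0
    rw [← TensorProduct.smul_tmul, h, TensorProduct.zero_tmul]
  simpa using congrArg (TensorProduct.rid R N) h2

/-- a complex tensored with a flat algebra -/
theorem Good.baseChange {M : ℕ → ModuleCat.{u} R} {d : ∀ n, M n →ₗ[R] M (n + 1)} (hd : Good d)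
    (S : Type u) [CommRing S] [Algebra R S] [Module.Flat R S] :
    Good (M := fun n => ModuleCat.of S (S ⊗[R] M n)) fun n => (d n).baseChange S := by
  haveI := hd.flat
  haveI := hd.flatH
  refine ⟨fun n => inferInstanceAs (Module.Flat S (S ⊗[R] M n)), fun n x => ?_,
    Module.Flat.lTensor_preserves_injective_linearMap (d 0) hd.inj, fun n => ?_⟩
  · change ((d (n + 1)).baseChange S ∘ₗ (d n).baseChange S) x = 0
    rw [← LinearMap.baseChange_comp,
      show d (n + 1) ∘ₗ d n = 0 from LinearMap.ext (hd.comp n), LinearMap.baseChange_zero]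
    rfl
  let K := LinearMap.ker (d (n + 1))
  let B := (LinearMap.range (d n)).comap K.subtype
  have hex : Function.Exact (K.subtype.baseChange S) ((d (n + 1)).baseChange S) :=
    Module.Flat.lTensor_exact (M := S) (LinearMap.exact_subtype_ker_map (d (n + 1)))
  let K' := LinearMap.ker ((d (n + 1)).baseChange S)
  let κ : S ⊗[R] K →ₗ[S] K' := (K.subtype.baseChange S).codRestrict K' fun t => (hex _).2 ⟨t, rfl⟩
  let B' := (LinearMap.range ((d n).baseChange S)).comap K'.subtype
  let d' : M n →ₗ[R] K := (d n).codRestrict K (hd.comp n)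
  have hsub : K.subtype.baseChange S ∘ₗ d'.baseChange S = (d n).baseChange S := by
    rw [← LinearMap.baseChange_comp]; rfl
  have hd' : LinearMap.range d' = B := by
    ext x
    constructor
    · rintro ⟨y, rfl⟩; exact ⟨y, rfl⟩
    · rintro ⟨y, hy⟩; exact ⟨y, Subtype.ext hy⟩
  have hq : Function.Exact (d'.baseChange S) (B.mkQ.baseChange S) :=
    lTensor_exact S (fun x => by rw [← LinearMap.mem_ker, Submodule.ker_mkQ, ← hd']; rfl) B.mkQ_surjective
  let π : S ⊗[R] K →ₗ[S] K' ⧸ B' := B'.mkQ ∘ₗ κ
  have hκ : Function.Injective κ := fun x y h =>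
    Module.Flat.lTensor_preserves_injective_linearMap (M := S) K.subtype K.injective_subtype (congrArg Subtype.val h)
  have hκs : Function.Surjective κ := fun y => by
    obtain ⟨t, ht⟩ := (hex y.1).1 y.2
    exact ⟨t, Subtype.ext ht⟩
  have hker : LinearMap.ker π = LinearMap.range (d'.baseChange S) := by
    ext t
    rw [LinearMap.mem_ker, LinearMap.comp_apply, Submodule.mkQ_apply, Submodule.Quotient.mk_eq_zero]
    constructor
    · rintro ⟨y, hy⟩
      exact ⟨y, hκ (Subtype.ext ((LinearMap.congr_fun hsub y).trans hy))⟩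
    · rintro ⟨y, rfl⟩
      exact ⟨y, (LinearMap.congr_fun hsub y).symm⟩
  have hπ : Function.Surjective π := B'.mkQ_surjective.comp hκs
  have e₁ : ((S ⊗[R] K) ⧸ LinearMap.range (d'.baseChange S)) ≃ₗ[S] (K' ⧸ B') :=
    (Submodule.quotEquivOfEq _ _ hker.symm).trans (π.quotKerEquivOfSurjective hπ)
  have hs : Function.Surjective (B.mkQ.baseChange S) := LinearMap.lTensor_surjective S B.mkQ_surjective
  have e₂ : ((S ⊗[R] K) ⧸ LinearMap.range (d'.baseChange S)) ≃ₗ[S] S ⊗[R] (K ⧸ B) :=
    (Submodule.quotEquivOfEq _ _ (LinearMap.exact_iff.1 hq).symm).trans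
      ((B.mkQ.baseChange S).quotKerEquivOfSurjective hs)
  exact Module.Flat.of_linearEquiv (e₁.symm.trans e₂)

/-- a complex reduced modulo a regular element -/
theorem Good.quotient {M : ℕ → ModuleCat.{u} R} {d : ∀ n, M n →ₗ[R] M (n + 1)} (hd : Good d)
    {f : R} (hf : IsSMulRegular R f) :
    Good (M := fun n => ModuleCat.of (R ⧸ Ideal.span {f}) ((R ⧸ Ideal.span {f}) ⊗[R] M n))
      fun n => (d n).baseChange (R ⧸ Ideal.span {f}) := by
  haveI := hd.flat
  haveI := hd.flatH
  let R' := R ⧸ Ideal.span {f}
  have hs : ∀ n, Function.Surjective fun x : M n => (1 : R') ⊗ₜ[R] x := fun n =>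
    TensorProduct.mk_surjective R (M n) R' Ideal.Quotient.mk_surjective
  have hz : ∀ n (x : M n), (1 : R') ⊗ₜ[R] x = 0 → ∃ y, x = f • y := fun n x h => by
    have h1 := congrArg (TensorProduct.quotTensorEquivQuotSMul (M n) (Ideal.span {f})) h
    rw [map_zero] at h1
    erw [TensorProduct.quotTensorEquivQuotSMul_mk_tmul, one_smul, Submodule.Quotient.mk_eq_zero] at h1
    rw [Submodule.ideal_span_singleton_smul] at h1
    obtain ⟨y, -, hy⟩ := Submodule.mem_smul_pointwise_iff_exists _ _ _ |>.1 h1
    exact ⟨y, hy.symm⟩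
  have hf0 : ∀ n (x : M n), (1 : R') ⊗ₜ[R] (f • x) = 0 := fun n x => by
    rw [← TensorProduct.smul_tmul, Algebra.smul_def, mul_one]
    have : algebraMap R R' f = 0 := Ideal.Quotient.eq_zero_iff_mem.2 (Ideal.mem_span_singleton_self f)
    rw [this, TensorProduct.zero_tmul]
  -- lifting cocycles
  have hlift : ∀ n (x : M (n + 1)), (1 : R') ⊗ₜ[R] d (n + 1) x = 0 → ∃ w, d (n + 1) (x - f • w) = 0 := fun n x h => by
    obtain ⟨y, hy⟩ := hz _ _ h
    have hy1 : d (n + 1 + 1) y = 0 := eq_zero_of_smul hf (by rw [← map_smul, ← hy, hd.comp])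
    have hy2 : Submodule.Quotient.mk (p := (LinearMap.range (d (n + 1))).comap _) (⟨y, hy1⟩ : LinearMap.ker (d (n + 2)))
        = (0 : H d (n + 1)) := by
      refine eq_zero_of_smul hf ?_
      rw [← Submodule.Quotient.mk_smul, Submodule.Quotient.mk_eq_zero]
      exact ⟨x, hy⟩
    obtain ⟨w, hw⟩ := (Submodule.Quotient.mk_eq_zero _).1 hy2
    refine ⟨w, ?_⟩
    rw [map_sub, map_smul, hw]
    exact sub_eq_zero.2 hy
  refine ⟨fun n => inferInstanceAs (Module.Flat R' (R' ⊗[R] M n)), fun n x => ?_, fun x y h => ?_, fun n => ?_⟩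
  · change ((d (n + 1)).baseChange R' ∘ₗ (d n).baseChange R') x = 0
    rw [← LinearMap.baseChange_comp,
      show d (n + 1) ∘ₗ d n = 0 from LinearMap.ext (hd.comp n), LinearMap.baseChange_zero]
    rfl
  · obtain ⟨x, rfl⟩ := hs 0 x
    obtain ⟨y, rfl⟩ := hs 0 y
    change (1 : R') ⊗ₜ[R] d 0 x = (1 : R') ⊗ₜ[R] d 0 y at h
    rw [← sub_eq_zero, ← TensorProduct.tmul_sub, ← map_sub] at h
    rw [← sub_eq_zero, ← TensorProduct.tmul_sub]
    obtain ⟨v, hv⟩ := hz _ _ h
    have hv1 : d 1 v = 0 := eq_zero_of_smul hf (by rw [← map_smul, ← hv, hd.comp])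
    have hv2 : Submodule.Quotient.mk (p := (LinearMap.range (d 0)).comap _) (⟨v, hv1⟩ : LinearMap.ker (d 1))
        = (0 : H d 0) := by
      refine eq_zero_of_smul hf ?_
      rw [← Submodule.Quotient.mk_smul, Submodule.Quotient.mk_eq_zero]
      exact ⟨x - y, hv⟩
    obtain ⟨w, hw⟩ := (Submodule.Quotient.mk_eq_zero _).1 hv2
    have : x - y = f • w := hd.inj (by rw [hv, map_smul, hw]; rfl)
    rw [this]
    exact hf0 _ _
  let K := LinearMap.ker (d (n + 1))
  let B := (LinearMap.range (d n)).comap K.subtype
  let d₁ := (d (n + 1)).baseChange R'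
  let K' := LinearMap.ker d₁
  let B' := (LinearMap.range ((d n).baseChange R')).comap K'.subtype
  let φ : R' ⊗[R] K →ₗ[R'] K' := (K.subtype.baseChange R').codRestrict K' fun t => by
    rw [LinearMap.mem_ker]
    change (d₁ ∘ₗ K.subtype.baseChange R') t = 0
    rw [← LinearMap.baseChange_comp, (d (n + 1)).comp_ker_subtype, LinearMap.baseChange_zero]
    rfl
  let ψ : R' ⊗[R] K →ₗ[R'] K' ⧸ B' := B'.mkQ ∘ₗ φ
  have hψ : Function.Surjective ψ := fun q => by
    obtain ⟨⟨k, hk⟩, rfl⟩ := B'.mkQ_surjective q
    obtain ⟨x, rfl⟩ := hs _ k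
    obtain ⟨w, hw⟩ := hlift n x hk
    refine ⟨(1 : R') ⊗ₜ[R] (⟨x - f • w, hw⟩ : K), congrArg _ (Subtype.ext ?_)⟩
    change (1 : R') ⊗ₜ[R] (x - f • w) = (1 : R') ⊗ₜ[R] x
    rw [TensorProduct.tmul_sub, hf0, sub_zero]
  have hker : LinearMap.ker ψ = LinearMap.ker (B.mkQ.baseChange R') := by
    ext t
    obtain ⟨⟨z, hzk⟩, rfl⟩ := TensorProduct.mk_surjective R K R' Ideal.Quotient.mk_surjective t
    simp only [LinearMap.mem_ker, TensorProduct.mk_apply, LinearMap.baseChange_tmul]
    constructor
    · intro h
      obtain ⟨w', hw'⟩ := (Submodule.Quotient.mk_eq_zero _).1 h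
      obtain ⟨w, rfl⟩ := hs _ w'
      obtain ⟨v, hv⟩ := hz _ (z - d n w) (by
        rw [TensorProduct.tmul_sub, sub_eq_zero]
        exact hw'.symm)
      have hv1 : d (n + 1) v = 0 := eq_zero_of_smul hf (by
        rw [← map_smul, ← hv, map_sub, LinearMap.mem_ker.1 hzk, hd.comp, sub_zero])
      have e : B.mkQ ⟨z, hzk⟩ = f • B.mkQ ⟨v, hv1⟩ := by
        rw [← map_smul, Submodule.mkQ_apply, Submodule.mkQ_apply, Submodule.Quotient.eq]
        exact ⟨w, by
          change d n w = z - f • v
          rw [← hv, sub_sub_cancel]⟩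
      rw [e, ← TensorProduct.smul_tmul, Algebra.smul_def, mul_one,
        show algebraMap R R' f = 0 from Ideal.Quotient.eq_zero_iff_mem.2 (Ideal.mem_span_singleton_self f),
        TensorProduct.zero_tmul]
    · intro h
      have h1 := congrArg (TensorProduct.quotTensorEquivQuotSMul (K ⧸ B) (Ideal.span {f})) h
      rw [map_zero] at h1
      erw [TensorProduct.quotTensorEquivQuotSMul_mk_tmul, one_smul, Submodule.Quotient.mk_eq_zero] at h1
      rw [Submodule.ideal_span_singleton_smul] at h1
      obtain ⟨q, -, hq⟩ := Submodule.mem_smul_pointwise_iff_exists _ _ _ |>.1 h1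
      obtain ⟨⟨v, hv1⟩, rfl⟩ := B.mkQ_surjective q
      rw [← map_smul, Submodule.mkQ_apply, Submodule.mkQ_apply, Submodule.Quotient.eq] at hq
      obtain ⟨w, hw⟩ := hq
      refine (Submodule.Quotient.mk_eq_zero _).2 ⟨(1 : R') ⊗ₜ[R] (-w), ?_⟩
      change (1 : R') ⊗ₜ[R] d n (-w) = (1 : R') ⊗ₜ[R] z
      rw [map_neg, show d n w = f • v - z from hw, neg_sub, TensorProduct.tmul_sub, hf0, sub_zero]
  exact Module.Flat.of_linearEquiv ((ψ.quotKerEquivOfSurjective hψ).symm.trans
    ((Submodule.quotEquivOfEq _ _ hker).trans ((B.mkQ.baseChange R').quotKerEquivOfSurjective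
      (LinearMap.lTensor_surjective R' B.mkQ_surjective))))

open IsLocalRing

/-- the induction on the number of generators -/
theorem residue_zero (q : ℕ) : ∀ (R : Type u) [CommRing R] [IsLocalRing R] (M : ℕ → ModuleCat.{u} R)
    (d : ∀ n, M n →ₗ[R] M (n + 1)), Good d → ∀ (z : M 0) (a : Fin q → R), (∀ i, a i ∈ maximalIdeal R) →
      ∀ y : Fin q → M 1, d 0 z = ∑ i, a i • y i → (1 : ResidueField R) ⊗ₜ[R] z = 0 := by
  induction q with
  | zero =>
    intro R _ _ M d hd z a _ y h
    rw [Fin.sum_univ_zero] at h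
    rw [hd.inj (h.trans (map_zero (d 0)).symm), TensorProduct.tmul_zero]
  | succ q ih =>
    intro R _ _ M d hd z a ha y h
    haveI := hd.flat
    by_cases hann : ∃ r : R, r ≠ 0 ∧ ∀ i, r * a i = 0
    · -- killed by a non-zero element
      obtain ⟨r, hr0, hr⟩ := hann
      have hrz : r • z = 0 := hd.inj (by
        rw [map_smul, h, map_zero, Finset.smul_sum]
        exact Finset.sum_eq_zero fun i _ => by rw [smul_smul, hr, zero_smul])
      let J := LinearMap.ker (r • LinearMap.id (R := R) (M := R))
      have hex : Function.Exact (J.subtype.lTensor (M 0)) ((r • LinearMap.id (R := R) (M := R)).lTensor (M 0)) :=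
        Module.Flat.lTensor_exact _ (LinearMap.exact_subtype_ker_map _)
      obtain ⟨t, ht⟩ := (hex (z ⊗ₜ[R] (1 : R))).1 (by
        rw [LinearMap.lTensor_tmul]
        change z ⊗ₜ[R] (r • (1 : R)) = 0
        rw [← TensorProduct.smul_tmul, hrz, TensorProduct.zero_tmul])
      have hJ : ∀ b : J, (b : R) ∈ maximalIdeal R := fun b => by
        by_contra hb
        have hb' : IsUnit (b : R) := by simpa using hb
        exact hr0 ((hb'.mul_left_eq_zero).1 (show r * (b : R) = 0 from b.2))
      have : ∀ t : M 0 ⊗[R] J,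
          (1 : ResidueField R) ⊗ₜ[R] (TensorProduct.rid R (M 0) (J.subtype.lTensor (M 0) t)) = 0 := fun t => by
        induction t using TensorProduct.induction_on with
        | zero => simp
        | tmul m b =>
          simp only [LinearMap.lTensor_tmul, Submodule.subtype_apply, TensorProduct.rid_tmul]
          rw [← TensorProduct.smul_tmul, Algebra.smul_def, mul_one, ResidueField.algebraMap_eq,
            (residue_eq_zero_iff _).2 (hJ b), TensorProduct.zero_tmul]
        | add x y hx hy => rw [map_add, map_add, TensorProduct.tmul_add, hx, hy, add_zero]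
      have h2 := this t
      rw [ht, TensorProduct.rid_tmul, one_smul] at h2
      exact h2
    · simp only [not_exists, not_and] at hann
      let p := Polynomial R
      let f₀ : p := ∑ i : Fin (q + 1), Polynomial.C (a i) * Polynomial.X ^ (i : ℕ)
      have hcoef : ∀ i : Fin (q + 1), f₀.coeff i = a i := fun i => by
        change (Polynomial.lcoeff R (i : ℕ)) (∑ j : Fin (q + 1), Polynomial.C (a j) * Polynomial.X ^ (j : ℕ)) = a i
        rw [map_sum, Finset.sum_eq_single i]
        · simp
        · intro j _ hj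
          simp [Polynomial.coeff_X_pow, Fin.val_inj, Ne.symm hj]
        · simp
      have hreg : f₀ ∈ nonZeroDivisors p := by
        by_contra hn
        obtain ⟨r, hr0, hr⟩ := Polynomial.notMem_nonZeroDivisors_iff.1 hn
        refine hann r hr0 fun i => ?_
        have := congrArg (fun g => Polynomial.coeff g i) hr
        simpa [Polynomial.coeff_smul, hcoef] using this
      let P : Ideal p := (maximalIdeal R).map Polynomial.C
      haveI : P.IsPrime := Ideal.isPrime_map_C_of_isPrime
      let S := Localization.AtPrime P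
      let g : S := algebraMap p S f₀
      have hgP : f₀ ∈ P := sum_mem fun i _ => Ideal.mul_mem_right _ _ (Ideal.mem_map_of_mem _ (ha i))
      have hg : IsSMulRegular S g := by
        intro x y hxy
        obtain ⟨⟨x₀, s⟩, hx⟩ := IsLocalization.surj P.primeCompl (x - y)
        have h1 : algebraMap p S (f₀ * x₀) = 0 := by
          simp only [smul_eq_mul] at hxy
          rw [map_mul, ← hx, ← mul_assoc, mul_sub]
          simp only [g] at hxy
          rw [hxy, sub_self, zero_mul]
        obtain ⟨c, hc⟩ := (IsLocalization.map_eq_zero_iff P.primeCompl S _).1 h1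
        have h2 : (c : p) * x₀ = 0 := (mem_nonZeroDivisors_iff_right.1 hreg) _ (by rw [← hc]; ring)
        have h3 : (x - y) * algebraMap p S s = 0 := by
          rw [hx, IsLocalization.map_eq_zero_iff P.primeCompl S]
          exact ⟨c, h2⟩
        exact sub_eq_zero.1 ((IsLocalization.map_units S s).mul_left_eq_zero.1 h3)
      haveI : Module.Flat R S := Module.Flat.trans R p S
      have hd₁ := hd.baseChange S
      let R' := S ⧸ Ideal.span {g}
      have hgm : g ∈ maximalIdeal S := by
        rw [← Localization.AtPrime.map_eq_maximalIdeal]; exact Ideal.mem_map_of_mem _ hgP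
      haveI : Nontrivial R' := Ideal.Quotient.nontrivial_iff.2 fun e =>
        (maximalIdeal.isMaximal S).ne_top (top_le_iff.1 (e ▸ (Ideal.span_singleton_le_iff_mem _).2 hgm))
      haveI : IsLocalRing R' := IsLocalRing.of_surjective' _ Ideal.Quotient.mk_surjective
      haveI : IsLocalHom (algebraMap R R') := ⟨fun r hr => by
        by_contra hr'
        have hm : Polynomial.C r ∈ P := Ideal.mem_map_of_mem _ (show r ∈ maximalIdeal R by simpa using hr')
        have hS : algebraMap p S (Polynomial.C r) ∈ maximalIdeal S := by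
          rw [← Localization.AtPrime.map_eq_maximalIdeal]; exact Ideal.mem_map_of_mem _ hm
        haveI : IsLocalHom (Ideal.Quotient.mk (Ideal.span {g})) := Ideal.Quotient.mk_surjective.isLocalHom _
        exact hS (isUnit_of_map_unit (Ideal.Quotient.mk (Ideal.span {g})) _ (by
          rwa [IsScalarTower.algebraMap_apply R S R', IsScalarTower.algebraMap_apply R p S] at hr))⟩
      let T : R' := algebraMap p R' Polynomial.X
      let ι : ∀ n, M n → R' ⊗[S] (S ⊗[R] M n) := fun n x => (1 : R') ⊗ₜ[S] ((1 : S) ⊗ₜ[R] x)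
      have hrel : ∑ i : Fin (q + 1), algebraMap R R' (a i) * T ^ (i : ℕ) = 0 := by
        have : algebraMap p R' f₀ = 0 := by
          rw [IsScalarTower.algebraMap_apply p S R']
          exact Ideal.Quotient.eq_zero_iff_mem.2 (Ideal.mem_span_singleton_self g)
        rw [← this, map_sum]
        exact Finset.sum_congr rfl fun i _ => by
          rw [map_mul, map_pow, IsScalarTower.algebraMap_apply R p R']; rfl
      have hι : ∀ (r : R) (x : M 1), ι 1 (r • x) = algebraMap R R' r • ι 1 x := fun r x => by
        simp only [ι]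
        rw [TensorProduct.tmul_smul, TensorProduct.tmul_smul, algebra_compatible_smul R' r]
      have hdι : (((d 0).baseChange S).baseChange R') (ι 0 z) = ∑ i : Fin q,
          algebraMap R R' (a i.succ) • (ι 1 (y i.succ) - T ^ (i.succ : ℕ) • ι 1 (y 0)) := by
        have h0 : (((d 0).baseChange S).baseChange R') (ι 0 z) = ι 1 (d 0 z) := rfl
        rw [h0, h, show ι 1 (∑ i, a i • y i) = ∑ i, ι 1 (a i • y i) by
          simp only [ι, TensorProduct.tmul_sum], Fin.sum_univ_succ, hι]
        simp only [hι, smul_sub, Finset.sum_sub_distrib, smul_smul, ← Finset.sum_smul]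
        rw [Fin.sum_univ_succ, Fin.val_zero, pow_zero, mul_one] at hrel
        rw [eq_neg_of_add_eq_zero_left hrel, neg_smul, neg_add_eq_sub]
      have key := ih R' _ _ (hd₁.quotient hg) (ι 0 z) (fun i => algebraMap R R' (a i.succ))
        (fun i => map_nonunit (algebraMap R R') _ (ha i.succ)) _ hdι
      let k' := ResidueField R'
      let e : k' ⊗[R'] (R' ⊗[S] (S ⊗[R] M 0)) ≃ₗ[k'] k' ⊗[R] M 0 :=
        (TensorProduct.AlgebraTensorModule.cancelBaseChange S R' k' k' (S ⊗[R] M 0)).trans
          (TensorProduct.AlgebraTensorModule.cancelBaseChange R S k' k' (M 0))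
      have h1 : (1 : k') ⊗ₜ[R] z = 0 := by
        have := congrArg e key
        rw [map_zero] at this
        simpa [e, ι] using this
      let μ : ResidueField R →ₐ[R] k' :=
        { ResidueField.map (algebraMap R R') with
          commutes' := fun r => by
            change ResidueField.map (algebraMap R R') (algebraMap R (ResidueField R) r) = _
            rw [IsScalarTower.algebraMap_apply R R' k']
            rfl }
      have hμ := Module.Flat.rTensor_preserves_injective_linearMap (M := M 0) μ.toLinearMap μ.toRingHom.injective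
      refine hμ ?_
      rw [map_zero, LinearMap.rTensor_tmul]
      simpa using h1

end Groth.L10.UnivExact
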