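import Groth.Agent.L10.UnivExact.Fibre
import Groth.Agent.L29.Dual.FlatInj
import Mathlib.RingTheory.Flat.FaithfullyFlat.Basic

/-!
A bounded below complex of finitely presented modules over a finitely presented algebra which are flat over the
base ring, and whose cohomology is finitely presented and flat, has finitely presented flat cocycle quotients.
-/

set_option autoImplicit false
set_option linter.style.haveILetI false
set_option maxSynthPendingDepth 4
set_option maxHeartbeats 1600000

universe u

open TensorProduct IsLocalRing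

noncomputable section

namespace Groth.L10.UnivExact

section base

variable {R : Type u} [CommRing R]

theorem exists_sum {N : Type u} [AddCommGroup N] [Module R N] {I : Ideal R} {z : N}
    (hz : z ∈ I • (⊤ : Submodule R N)) :
    ∃ (q : ℕ) (a : Fin q → R) (y : Fin q → N), (∀ i, a i ∈ I) ∧ z = ∑ i, a i • y i := by
  refine Submodule.smul_induction_on hz (fun r hr w _ => ⟨1, fun _ => r, fun _ => w, fun _ => hr, by simp⟩) ?_
  rintro x y ⟨q, a, v, ha, rfl⟩ ⟨q', a', v', ha', rfl⟩
  exact ⟨q + q', Fin.append a a', Fin.append v v', fun i => by induction i using Fin.addCases <;> simp [ha, ha'],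
    by simp [Fin.sum_univ_add]⟩

/-- the first differential is injective on every fibre -/
theorem Good.fibre {M : ℕ → ModuleCat.{u} R} {d : ∀ n, M n →ₗ[R] M (n + 1)} (hd : Good d)
    (p : Ideal R) [p.IsPrime] (x : M 0) (h : d 0 x ∈ p • (⊤ : Submodule R (M 1))) :
    ∃ a ∉ p, a • x ∈ p • (⊤ : Submodule R (M 0)) := by
  obtain ⟨q, a, y, ha, hsum⟩ := exists_sum h
  let S := Localization.AtPrime p
  haveI : Module.Flat R S := IsLocalization.flat S p.primeCompl
  have hk := residue_zero q S _ _ (hd.baseChange S) ((1 : S) ⊗ₜ[R] x) (fun i => algebraMap R S (a i))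
    (fun i => by rw [← Localization.AtPrime.map_eq_maximalIdeal]; exact Ideal.mem_map_of_mem _ (ha i))
    (fun i => (1 : S) ⊗ₜ[R] y i) (by
      change (1 : S) ⊗ₜ[R] d 0 x = _
      rw [hsum, TensorProduct.tmul_sum]
      exact Finset.sum_congr rfl fun i _ => by rw [TensorProduct.tmul_smul, algebraMap_smul])
  have h1 := congrArg (TensorProduct.quotTensorEquivQuotSMul (S ⊗[R] M 0) (maximalIdeal S)) hk
  erw [LinearEquiv.map_zero, TensorProduct.quotTensorEquivQuotSMul_mk_tmul, one_smul, Submodule.Quotient.mk_eq_zero] at h1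
  let e := LocalizedModule.equivTensorProduct p.primeCompl (M 0)
  have h2 : e.symm ((1 : S) ⊗ₜ[R] x) ∈ p.map (algebraMap R S) • (⊤ : Submodule S (LocalizedModule p.primeCompl (M 0))) := by
    have := Submodule.mem_map_of_mem (f := e.symm.toLinearMap) h1
    rw [Submodule.map_smul'', Submodule.map_top, LinearEquiv.range] at this
    rwa [← Localization.AtPrime.map_eq_maximalIdeal] at this
  obtain ⟨n, hn, s, hs, hsn⟩ := Groth.L29.FlatInj.exists_smul_mk_mem p p h2
  have h3 : LocalizedModule.mkLinearMap p.primeCompl (M 0) (s • x) = LocalizedModule.mkLinearMap p.primeCompl (M 0) n := by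
    rw [← hsn, map_smul]
    congr 1
    rw [LinearEquiv.eq_symm_apply]
    simp [e, LocalizedModule.mkLinearMap_apply, Localization.mk_one]
  obtain ⟨c, hc⟩ := (IsLocalizedModule.eq_iff_exists p.primeCompl (LocalizedModule.mkLinearMap p.primeCompl (M 0))).1 h3
  refine ⟨(c : R) * s, mul_mem c.2 hs, ?_⟩
  rw [mul_smul, show (c : R) • s • x = (c : R) • n from hc]
  exact Submodule.smul_mem _ _ hn

/-- a sequence prolonged to the left -/
def consM (A : ModuleCat.{u} R) (M : ℕ → ModuleCat.{u} R) : ℕ → ModuleCat.{u} R
  | 0 => A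
  | n + 1 => M n

/-- the differentials of a prolonged sequence -/
def consD {A : ModuleCat.{u} R} {M : ℕ → ModuleCat.{u} R} (v : A →ₗ[R] M 0) (d : ∀ n, M n →ₗ[R] M (n + 1)) :
    ∀ n, consM A M n →ₗ[R] consM A M (n + 1)
  | 0 => v
  | n + 1 => d n

/-- flat terms and flat cohomology, except at the first place -/
structure Pre {M : ℕ → ModuleCat.{u} R} (d : ∀ n, M n →ₗ[R] M (n + 1)) : Prop where
  flat : ∀ n, Module.Flat R (M n)
  comp : ∀ n x, d (n + 1) (d n x) = 0
  flatH : ∀ n, Module.Flat R (H d n)

theorem Pre.good {M : ℕ → ModuleCat.{u} R} {d : ∀ n, M n →ₗ[R] M (n + 1)} (hd : Pre d)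
    (h : Function.Injective (d 0)) : Good d := ⟨hd.flat, hd.comp, h, hd.flatH⟩

theorem Pre.cons {A : ModuleCat.{u} R} {M : ℕ → ModuleCat.{u} R} {d : ∀ n, M n →ₗ[R] M (n + 1)} (hd : Pre d)
    (v : A →ₗ[R] M 0) (hA : Module.Flat R A) (hv : ∀ x, d 0 (v x) = 0)
    (hH : Module.Flat R (LinearMap.ker (d 0) ⧸ (LinearMap.range v).comap (LinearMap.ker (d 0)).subtype)) :
    Pre (consD v d) := by
  refine ⟨fun n => ?_, fun n => ?_, fun n => ?_⟩ <;> cases n
  exacts [hA, hd.flat _, hv, hd.comp _, hH, hd.flatH _]

end base

section algebra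

variable {R B : Type u} [CommRing R] [CommRing B] [Algebra R B] [Algebra.FinitePresentation R B]

/-- the first cokernel -/
theorem coker_zero {X Y : Type u} [AddCommGroup X] [Module B X] [Module R X] [IsScalarTower R B X]
    [AddCommGroup Y] [Module B Y] [Module R Y] [IsScalarTower R B Y] [Module.FinitePresentation B X]
    [Module.FinitePresentation B Y] [Module.Flat R X] [Module.Flat R Y] (v : X →ₗ[B] Y)
    {T : ℕ → ModuleCat.{u} R} {t : ∀ n, T n →ₗ[R] T (n + 1)} (w : Y →ₗ[R] T 0) (hT : Pre t)
    (hv : Function.Injective v) (hwv : ∀ x, w (v x) = 0) (htw : ∀ y, t 0 (w y) = 0)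
    (hH0 : Module.Flat R (LinearMap.ker w ⧸ (LinearMap.range (v.restrictScalars R)).comap (LinearMap.ker w).subtype))
    (hH1 : Module.Flat R (LinearMap.ker (t 0) ⧸ (LinearMap.range w).comap (LinearMap.ker (t 0)).subtype)) :
    Module.Flat R (Y ⧸ LinearMap.range v) ∧ Module.FinitePresentation B (Y ⧸ LinearMap.range v) := by
  have hg : Good (consD (A := ModuleCat.of R X) (M := consM (ModuleCat.of R Y) T) (v.restrictScalars R)
      (consD (A := ModuleCat.of R Y) w t)) :=
    Pre.good (Pre.cons (Pre.cons hT (A := ModuleCat.of R Y) w ‹_› htw hH1) (A := ModuleCat.of R X)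
      (v.restrictScalars R) ‹_› hwv hH0) hv
  refine ⟨(Groth.L29.FlatInj.inj_flat_of_elements v fun p _ x hx => ?_).2,
    Module.finitePresentation_of_surjective (LinearMap.range v).mkQ (Submodule.mkQ_surjective _) (by
      rw [Submodule.ker_mkQ, LinearMap.range_eq_map]
      exact Module.Finite.fg_top.map v)⟩
  obtain ⟨a, ha, hax⟩ := hg.fibre p x (by
    rw [← Submodule.restrictScalars_mem R, Ideal.smul_restrictScalars] at hx
    rw [Submodule.restrictScalars_top] at hx
    exact hx)
  refine ⟨a, ha, ?_⟩
  rw [algebraMap_smul, ← Submodule.restrictScalars_mem R, Ideal.smul_restrictScalars, Submodule.restrictScalars_top]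
  exact hax

variable {M : ℕ → Type u} [∀ n, AddCommGroup (M n)] [∀ n, Module B (M n)] [∀ n, Module R (M n)]
  [∀ n, IsScalarTower R B (M n)] (d : ∀ n, M n →ₗ[B] M (n + 1))

/-- the cohomology of a sequence over the algebra -/
abbrev HB (n : ℕ) : Type u :=
  LinearMap.ker (d (n + 1)) ⧸ (LinearMap.range (d n)).comap (LinearMap.ker (d (n + 1))).subtype

/-- the tail of a sequence -/
abbrev tailM (M : ℕ → Type u) [∀ n, AddCommGroup (M n)] [∀ n, Module R (M n)] (m : ℕ) : ℕ → ModuleCat.{u} R :=
  fun k => ModuleCat.of R (M (m + k))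

/-- the differentials of the tail -/
abbrev tailD (m : ℕ) : ∀ k, tailM (R := R) M m k →ₗ[R] tailM (R := R) M m (k + 1) :=
  fun k => (d (m + k)).restrictScalars R

variable {d}

omit [Algebra.FinitePresentation R B] in
theorem pre_tail (hflat : ∀ n, Module.Flat R (M n)) (hcomp : ∀ n x, d (n + 1) (d n x) = 0)
    (hH : ∀ n, Module.Flat R (HB d n)) (m : ℕ) : Pre (tailD (R := R) d m) := by
  refine ⟨fun k => hflat _, fun k => hcomp (m + k), fun k => ?_⟩
  haveI := hH (m + k)
  exact Module.Flat.of_linearEquiv (M := HB d (m + k))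
    { toFun := fun q => Quotient.liftOn' q (fun x => Submodule.Quotient.mk ⟨x.1, x.2⟩) fun x y hxy => by
        rw [Submodule.quotientRel_def] at hxy
        exact (Submodule.Quotient.eq _).2 hxy
      map_add' := fun q q' => Quotient.inductionOn₂' q q' fun x y => rfl
      map_smul' := fun r q => Quotient.inductionOn' q fun x => rfl
      invFun := fun q => Quotient.liftOn' q (fun x => Submodule.Quotient.mk ⟨x.1, x.2⟩) fun x y hxy => by
        rw [Submodule.quotientRel_def] at hxy
        exact (Submodule.Quotient.eq _).2 hxy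
      left_inv := fun q => Quotient.inductionOn' q fun x => rfl
      right_inv := fun q => Quotient.inductionOn' q fun x => rfl }

/-- all cocycle quotients are flat and finitely presented -/
theorem coker_flat (hflat : ∀ n, Module.Flat R (M n)) (hfp : ∀ n, Module.FinitePresentation B (M n))
    (hcomp : ∀ n x, d (n + 1) (d n x) = 0) (hinj : Function.Injective (d 0))
    (hH : ∀ n, Module.Flat R (HB d n)) (hHfp : ∀ n, Module.FinitePresentation B (HB d n)) :
    ∀ n, Module.Flat R (M (n + 1) ⧸ LinearMap.range (d n)) ∧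
      Module.FinitePresentation B (M (n + 1) ⧸ LinearMap.range (d n)) := by
  intro n
  induction n with
  | zero =>
    haveI := hflat 0; haveI := hflat 1; haveI := hfp 0; haveI := hfp 1
    exact coker_zero (d 0) (T := tailM M 2) (t := tailD d 2) ((d 1).restrictScalars R) (pre_tail hflat hcomp hH 2)
      hinj (hcomp 0) (hcomp 1) ((pre_tail (R := R) hflat hcomp hH 0).flatH 0)
      ((pre_tail (R := R) hflat hcomp hH 1).flatH 0)
  | succ n ih =>
    obtain ⟨hQ, hQfp⟩ := ih
    let Q := M (n + 1) ⧸ LinearMap.range (d n)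
    haveI : Module.Flat R Q := hQ
    haveI : Module.FinitePresentation B Q := hQfp
    haveI := hflat (n + 1 + 1); haveI := hfp (n + 1 + 1)
    haveI := hH n; haveI := hHfp n
    let D : Q →ₗ[B] M (n + 1 + 1) := (LinearMap.range (d n)).liftQ (d (n + 1))
      (by rintro _ ⟨x, rfl⟩; exact hcomp n x)
    let K := LinearMap.ker D
    -- the kernel is the cohomology
    let φ : LinearMap.ker (d (n + 1)) →ₗ[B] K :=
      ((LinearMap.range (d n)).mkQ ∘ₗ (LinearMap.ker (d (n + 1))).subtype).codRestrict K fun x => x.2
    have hφ : Function.Surjective φ := fun q => by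
      obtain ⟨x, hx⟩ := Submodule.mkQ_surjective _ q.1
      exact ⟨⟨x, by
        have h' : D q.1 = 0 := q.2
        rw [← hx] at h'
        exact h'⟩, Subtype.ext hx⟩
    have hkerφ : LinearMap.ker φ = (LinearMap.range (d n)).comap (LinearMap.ker (d (n + 1))).subtype := by
      ext x
      rw [LinearMap.mem_ker, ← Subtype.coe_inj]
      change Submodule.Quotient.mk (p := LinearMap.range (d n)) x.1 = 0 ↔ _
      rw [Submodule.Quotient.mk_eq_zero]
      exact Iff.rfl
    let eK : HB d n ≃ₗ[B] K := (Submodule.quotEquivOfEq _ _ hkerφ.symm).trans (φ.quotKerEquivOfSurjective hφ)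
    haveI : Module.Flat R K := Module.Flat.of_linearEquiv (eK.restrictScalars R).symm
    haveI : Module.FinitePresentation B K :=
      Module.finitePresentation_of_surjective eK.toLinearMap eK.surjective (by simp [Submodule.fg_bot])
    have hT := pre_tail (R := R) hflat hcomp hH (n + 1 + 1)
    have hHrange : Module.Flat R (LinearMap.ker (tailD (R := R) d (n + 1 + 1) 0) ⧸
        (LinearMap.range (D.restrictScalars R)).comap (LinearMap.ker (tailD (R := R) d (n + 1 + 1) 0)).subtype) := by
      have hr : LinearMap.range (D.restrictScalars R) = LinearMap.range ((d (n + 1)).restrictScalars R) := by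
        ext y
        constructor
        · rintro ⟨q, rfl⟩
          obtain ⟨x, rfl⟩ := Submodule.mkQ_surjective _ q
          exact ⟨x, rfl⟩
        · rintro ⟨x, rfl⟩
          exact ⟨Submodule.Quotient.mk x, rfl⟩
      rw [hr]
      exact (pre_tail (R := R) hflat hcomp hH (n + 1)).flatH 0
    have hDD : ∀ q : Q, d (n + 1 + 1) (D q) = 0 := fun q => by
      obtain ⟨x, rfl⟩ := Submodule.mkQ_surjective _ q
      exact hcomp (n + 1) x
    -- the quotient by the cohomology
    have hsub : Subsingleton (LinearMap.ker (D.restrictScalars R) ⧸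
        (LinearMap.range (K.subtype.restrictScalars R)).comap (LinearMap.ker (D.restrictScalars R)).subtype) :=
      Submodule.Quotient.subsingleton_iff.2 (eq_top_iff.2 fun x _ => ⟨⟨x.1, x.2⟩, rfl⟩)
    obtain ⟨hP, hPfp⟩ := coker_zero (X := K) (Y := Q) K.subtype (T := tailM M (n + 1 + 1)) (t := tailD d (n + 1 + 1))
      (D.restrictScalars R) hT K.injective_subtype (fun x => x.2) hDD
      (by haveI := hsub; infer_instance) hHrange
    let P := Q ⧸ LinearMap.range K.subtype
    haveI : Module.Flat R P := hP
    haveI : Module.FinitePresentation B P := hPfp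
    let D' : P →ₗ[B] M (n + 1 + 1) := (LinearMap.range K.subtype).liftQ D (by rw [Submodule.range_subtype])
    have hr' : LinearMap.range D' = LinearMap.range (d (n + 1)) := by
      rw [Submodule.range_liftQ, Submodule.range_liftQ]
    have hDD' : ∀ q : P, d (n + 1 + 1) (D' q) = 0 := fun q => by
      obtain ⟨q, rfl⟩ := Submodule.mkQ_surjective _ q
      exact hDD q
    have hD'inj : Function.Injective D' := by
      rw [← LinearMap.ker_eq_bot]
      exact Submodule.ker_liftQ_eq_bot _ _ _ (by rw [Submodule.range_subtype])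
    have hH' : Module.Flat R (LinearMap.ker ((d (n + 1 + 1)).restrictScalars R) ⧸
        (LinearMap.range (D'.restrictScalars R)).comap (LinearMap.ker ((d (n + 1 + 1)).restrictScalars R)).subtype) := by
      have hr : LinearMap.range (D'.restrictScalars R) = LinearMap.range ((d (n + 1)).restrictScalars R) := by
        rw [LinearMap.range_restrictScalars, LinearMap.range_restrictScalars, hr']
      rw [hr]
      exact (pre_tail (R := R) hflat hcomp hH (n + 1)).flatH 0
    obtain ⟨h1, h2⟩ := coker_zero (X := P) (Y := M (n + 1 + 1)) D' (T := tailM M (n + 1 + 2))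
      (t := tailD d (n + 1 + 2)) ((d (n + 1 + 1)).restrictScalars R) (pre_tail hflat hcomp hH (n + 1 + 2)) hD'inj
      hDD' (hcomp (n + 1 + 1)) hH' ((pre_tail (R := R) hflat hcomp hH (n + 1 + 1)).flatH 0)
    let e := Submodule.quotEquivOfEq _ _ hr'
    exact ⟨Module.Flat.of_linearEquiv (e.restrictScalars R).symm,
      Module.finitePresentation_of_surjective e.toLinearMap e.surjective (by simp [Submodule.fg_bot])⟩

/-- in an exact range, tensor products stay exact -/
theorem lTensor_exact_of (hflat : ∀ n, Module.Flat R (M n)) (hfp : ∀ n, Module.FinitePresentation B (M n))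
    (hcomp : ∀ n x, d (n + 1) (d n x) = 0) (hinj : Function.Injective (d 0))
    (hH : ∀ n, Module.Flat R (HB d n)) (hHfp : ∀ n, Module.FinitePresentation B (HB d n))
    (n : ℕ) (hn : Function.Exact (d n) (d (n + 1))) (W : Type u) [AddCommGroup W] [Module R W] :
    Function.Exact (((d n).restrictScalars R).lTensor W) (((d (n + 1)).restrictScalars R).lTensor W) := by
  let Q := M (n + 1) ⧸ LinearMap.range (d n)
  let π : M (n + 1) →ₗ[R] Q := (LinearMap.range (d n)).mkQ.restrictScalars R
  let D : Q →ₗ[B] M (n + 1 + 1) := (LinearMap.range (d n)).liftQ (d (n + 1)) (by rintro _ ⟨x, rfl⟩; exact hcomp n x)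
  have hD : Function.Injective (D.restrictScalars R) := by
    show Function.Injective D
    rw [← LinearMap.ker_eq_bot]
    exact Submodule.ker_liftQ_eq_bot _ _ _ (LinearMap.exact_iff.1 hn).le
  have hQflat := (coker_flat hflat hfp hcomp hinj hH hHfp (n + 1)).1
  have hexD : Function.Exact (D.restrictScalars R) ((LinearMap.range (d (n + 1))).mkQ.restrictScalars R) := fun y => by
    rw [LinearMap.restrictScalars_apply, Submodule.mkQ_apply, Submodule.Quotient.mk_eq_zero]
    constructor
    · rintro ⟨x, rfl⟩
      exact ⟨Submodule.Quotient.mk x, rfl⟩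
    · rintro ⟨q, rfl⟩
      obtain ⟨x, rfl⟩ := Submodule.mkQ_surjective _ q
      exact ⟨x, rfl⟩
  haveI := hQflat
  have hW : Function.Injective ((D.restrictScalars R).lTensor W) :=
    LinearMap.lTensor_injective_of_exact_of_flat ((LinearMap.range (d (n + 1))).mkQ.restrictScalars R)
      (Submodule.mkQ_surjective _) (D.restrictScalars R) hD hexD W
  have hπ : Function.Exact (((d n).restrictScalars R).lTensor W) (π.lTensor W) :=
    lTensor_exact W (fun y => by
      show Submodule.Quotient.mk y = 0 ↔ _
      rw [Submodule.Quotient.mk_eq_zero]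
      exact Iff.rfl) (Submodule.mkQ_surjective _)
  have hcompW : ((d (n + 1)).restrictScalars R).lTensor W = (D.restrictScalars R).lTensor W ∘ₗ π.lTensor W := by
    rw [← LinearMap.lTensor_comp]
    rfl
  intro t
  rw [hcompW, LinearMap.comp_apply, ← map_zero ((D.restrictScalars R).lTensor W), hW.eq_iff]
  exact hπ t

end algebra

end Groth.L10.UnivExact
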